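import Mathlib
import Cfsg.Agent.Lib.helper15.QS5

set_option autoImplicit false
set_option linter.unusedSimpArgs false
set_option linter.unusedVariables false
set_option linter.style.haveILetI false

namespace Cfsg.Agent.Lib.Helper1.Hig

open Matrix Cfsg.Agent.Lib.helper15.NatMod Cfsg.Agent.Lib.helper15.QS

def g1 (F : Type*) [Field F] : SpecialLinearGroup (Fin 2) F := uu 1 * ll 1

def FPF (F : Type*) [Field F] (A : Type*) [AddCommGroup A]
    [DistribMulAction (SpecialLinearGroup (Fin 2) F) A] : Prop :=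
  ∀ a : A, g1 F • a = a → a = 0

section Mat

variable {F : Type*} [Field F]

lemma uu_ll_eq_conj (s : F) (hs : s ≠ 0) :
    uu (s ^ 2) * ll (s ^ 2)⁻¹ = dd s hs * g1 F * (dd s hs)⁻¹ := by
  unfold g1
  rw [← mul_assoc, dd_mul_uu, mul_assoc (uu _), dd_mul_ll, mul_assoc, mul_assoc, mul_inv_cancel,
    mul_one, mul_one, one_div]

lemma g1_pow_three [CharP F 2] : g1 F ^ 3 = 1 := by
  have h2 : (2 : F) = 0 := CharTwo.two_eq_zero
  have h11 : (1 : F) + 1 = 0 := by rw [one_add_one_eq_two]; exact h2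
  unfold g1
  apply sl_ext <;>
    simp [pow_succ, mul_coe, uu_coe, ll_coe, Matrix.mul_apply, Fin.sum_univ_two, h11]

lemma exists_sq [Fintype F] [CharP F 2] (t : F) : ∃ s : F, s ^ 2 = t := by
  have h : ringChar F = 2 := ringChar.eq F 2
  obtain ⟨s, hs⟩ := FiniteField.isSquare_of_char_two h t
  exact ⟨s, by rw [hs, pow_two]⟩

lemma uu_ll_pow_three [Fintype F] [CharP F 2] (t : F) (ht : t ≠ 0) :
    (uu t * ll t⁻¹) ^ 3 = 1 := by
  obtain ⟨s, rfl⟩ := exists_sq t
  have hs : s ≠ 0 := by rintro rfl; simp at ht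
  rw [uu_ll_eq_conj s hs, conj_pow, g1_pow_three, mul_one, mul_inv_cancel]

lemma uu_uu [CharP F 2] (t : F) : uu t * uu t = 1 := by
  rw [uu_mul, CharTwo.add_self_eq_zero, uu_zero]

lemma ll_ll [CharP F 2] (t : F) : ll t * ll t = 1 := by
  rw [ll_mul, CharTwo.add_self_eq_zero, ll_zero]

lemma ww_eq' [CharP F 2] (c : F) (hc : c ≠ 0) : ww c hc = uu c * ll c⁻¹ * uu c := by
  rw [ww_eq, CharTwo.neg_eq]

end Mat

section Mod

variable {F : Type*} [Field F] {A : Type*} [AddCommGroup A]
  [DistribMulAction (SpecialLinearGroup (Fin 2) F) A]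

lemma FPF.conj (h : FPF F A) (c : SpecialLinearGroup (Fin 2) F) (a : A)
    (ha : (c * g1 F * c⁻¹) • a = a) : a = 0 := by
  have h1 : g1 F • (c⁻¹ • a) = c⁻¹ • a := by
    have := congrArg (fun b => c⁻¹ • b) ha
    simp only [← mul_smul] at this
    rw [← mul_smul]
    rw [← this]
    congr 1
    group
  have h2 := h _ h1
  have h3 := congrArg (fun b => c • b) h2
  simpa using h3

lemma FPF.gt [Fintype F] [CharP F 2] (h : FPF F A) (t : F) (ht : t ≠ 0) (a : A)
    (ha : (uu t * ll t⁻¹) • a = a) : a = 0 := by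
  obtain ⟨s, rfl⟩ := exists_sq t
  have hs : s ≠ 0 := by rintro rfl; simp at ht
  rw [uu_ll_eq_conj s hs] at ha
  exact h.conj _ a ha

lemma mem_fixU_iff_NN {a : A} : a ∈ fixU F A ↔ ∀ t : F, NN t a = 0 := by
  constructor
  · intro h t; exact NN_of_fix h t
  · intro h t
    have := h t
    unfold NN at this
    exact sub_eq_zero.mp this

lemma mem_fixL_iff_MM {a : A} : a ∈ fixL F A ↔ ∀ t : F, MM t a = 0 := by
  constructor
  · intro h t; exact MM_of_fix h t
  · intro h t
    have := h t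
    unfold MM at this
    exact sub_eq_zero.mp this

lemma NN_param_add' (s t : F) (a : A) :
    NN (s + t) a = NN s a + NN t a + NN s (NN t a) := by
  have h1 : uu (s + t) • a = uu s • (uu t • a) := by rw [← uu_mul, mul_smul]
  unfold NN
  rw [h1, smul_sub]
  abel

lemma MM_param_add' (s t : F) (a : A) :
    MM (s + t) a = MM s a + MM t a + MM s (MM t a) := by
  have h1 : ll (s + t) • a = ll s • (ll t • a) := by rw [← ll_mul, mul_smul]
  unfold MM
  rw [h1, smul_sub]
  abel

lemma NN_comm (s t : F) (a : A) : NN s (NN t a) = NN t (NN s a) := by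
  have h1 : uu s • (uu t • a) = uu t • (uu s • a) := by
    rw [← mul_smul, ← mul_smul, uu_mul, uu_mul, add_comm]
  unfold NN
  rw [smul_sub, smul_sub, h1]
  abel

lemma MM_comm (s t : F) (a : A) : MM s (MM t a) = MM t (MM s a) := by
  have h1 : ll s • (ll t • a) = ll t • (ll s • a) := by
    rw [← mul_smul, ← mul_smul, ll_mul, ll_mul, add_comm]
  unfold MM
  rw [smul_sub, smul_sub, h1]
  abel

lemma NN_self [CharP F 2] (t : F) (a : A) : NN t (NN t a) = -(NN t a + NN t a) := by
  have h := NN_param_add' t t a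
  rw [CharTwo.add_self_eq_zero, NN_param_zero] at h
  have : NN t (NN t a) + (NN t a + NN t a) = 0 := by rw [h]; abel
  exact eq_neg_of_add_eq_zero_left this

lemma MM_self [CharP F 2] (t : F) (a : A) : MM t (MM t a) = -(MM t a + MM t a) := by
  have h := MM_param_add' t t a
  rw [CharTwo.add_self_eq_zero, MM_param_zero] at h
  have : MM t (MM t a) + (MM t a + MM t a) = 0 := by rw [h]; abel
  exact eq_neg_of_add_eq_zero_left this

lemma smul_NN (g : SpecialLinearGroup (Fin 2) F) (t t' : F) (hg : g * uu t = uu t' * g) (a : A) :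
    g • NN t a = NN t' (g • a) := by
  unfold NN
  rw [smul_sub, ← mul_smul, hg, mul_smul]

lemma smul_MM (g : SpecialLinearGroup (Fin 2) F) (t t' : F) (hg : g * ll t = ll t' * g) (a : A) :
    g • MM t a = MM t' (g • a) := by
  unfold MM
  rw [smul_sub, ← mul_smul, hg, mul_smul]

lemma dd_NN (c : F) (hc : c ≠ 0) (t : F) (a : A) :
    dd c hc • NN t a = NN (c ^ 2 * t) (dd c hc • a) :=
  smul_NN _ _ _ (dd_mul_uu c hc t) a

lemma dd_MM (c : F) (hc : c ≠ 0) (t : F) (a : A) :
    dd c hc • MM t a = MM (t / c ^ 2) (dd c hc • a) :=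
  smul_MM _ _ _ (dd_mul_ll c hc t) a

lemma two_tors_smul (g : SpecialLinearGroup (Fin 2) F) {a : A} (ha : a + a = 0) :
    g • a + g • a = 0 := by rw [← smul_add, ha, smul_zero]

lemma two_tors_NN (t : F) {a : A} (ha : a + a = 0) : NN t a + NN t a = 0 := by
  rw [← NN_add, ha, NN_zero]

lemma two_tors_MM (t : F) {a : A} (ha : a + a = 0) : MM t a + MM t a = 0 := by
  rw [← MM_add, ha, MM_zero]

lemma neg_of_two_tors {a : A} (ha : a + a = 0) : -a = a := by
  exact neg_eq_of_add_eq_zero_left ha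

theorem s3_rel [Fintype F] [CharP F 2] (h : FPF F A) (t : F) (ht : t ≠ 0) {a : A}
    (ha : a + a = 0) : NN t (MM t⁻¹ a) + MM t⁻¹ (NN t a) = a := by
  set g := uu t * ll t⁻¹ with hg
  have hg3 : g ^ 3 = 1 := uu_ll_pow_three t ht
  have hginv : g⁻¹ = ll t⁻¹ * uu t := by
    rw [hg, _root_.mul_inv_rev, uu_inv, ll_inv, CharTwo.neg_eq, CharTwo.neg_eq]
  have hg2 : g * g = g⁻¹ := by
    rw [eq_inv_iff_mul_eq_one]
    rw [← hg3, pow_succ, pow_succ, pow_one]
  have he : g • (a + g • a + g⁻¹ • a) = a + g • a + g⁻¹ • a := by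
    rw [smul_add, smul_add, ← mul_smul, ← mul_smul, hg2, mul_inv_cancel, one_smul]
    abel
  have h0 := h.gt t ht _ he
  have e1 : g • a = a + NN t a + MM t⁻¹ a + NN t (MM t⁻¹ a) := by
    rw [hg, mul_smul, ll_apply, smul_add, uu_apply, uu_apply]
    abel
  have e2 : g⁻¹ • a = a + NN t a + MM t⁻¹ a + MM t⁻¹ (NN t a) := by
    rw [hginv, mul_smul, uu_apply, smul_add, ll_apply, ll_apply]
    abel
  rw [e1, e2] at h0
  have hN := two_tors_NN t ha
  have hM := two_tors_MM (F := F) t⁻¹ ha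
  have key : NN t (MM t⁻¹ a) + MM t⁻¹ (NN t a) + a = 0 := by
    have : a + (a + NN t a + MM t⁻¹ a + NN t (MM t⁻¹ a)) +
        (a + NN t a + MM t⁻¹ a + MM t⁻¹ (NN t a)) =
        (NN t (MM t⁻¹ a) + MM t⁻¹ (NN t a) + a) + (a + a) + (NN t a + NN t a) +
          (MM t⁻¹ a + MM t⁻¹ a) := by abel
    rw [this, ha, hN, hM, add_zero, add_zero, add_zero] at h0
    exact h0
  have := eq_neg_of_add_eq_zero_left key
  rw [this, neg_of_two_tors ha]

lemma eq_NN_of_NN_eq_zero [Fintype F] [CharP F 2] (h : FPF F A) (t : F) (ht : t ≠ 0) {a : A}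
    (ha : a + a = 0) (hx : NN t a = 0) : a = NN t (MM t⁻¹ a) := by
  have := s3_rel h t ht ha
  rw [hx, MM_zero, add_zero] at this
  exact this.symm

lemma eq_MM_of_MM_eq_zero [Fintype F] [CharP F 2] (h : FPF F A) (t : F) (ht : t ≠ 0) {a : A}
    (ha : a + a = 0) (hx : MM t⁻¹ a = 0) : a = MM t⁻¹ (NN t a) := by
  have := s3_rel h t ht ha
  rw [hx, NN_zero, zero_add] at this
  exact this.symm

theorem NN_eq_ww_of_fixL [Fintype F] [CharP F 2] (h : FPF F A) (t : F) (ht : t ≠ 0) {z : A}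
    (hz : z + z = 0) (hL : z ∈ fixL F A) : NN t z = ww t ht • z := by
  have h1 : MM t⁻¹ (NN t z) = z := by
    have := s3_rel h t ht hz
    rw [MM_of_fix hL, NN_zero, zero_add] at this
    exact this
  have h2 : NN t (NN t z) = 0 := by
    rw [NN_self, two_tors_NN t hz, neg_zero]
  have e1 : uu t • z = z + NN t z := uu_apply t z
  have e2 : ll t⁻¹ • (z + NN t z) = NN t z := by
    rw [smul_add, hL t⁻¹, ll_apply, h1]
    have : z + (NN t z + z) = NN t z + (z + z) := by abel
    rw [this, hz, add_zero]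
  have e3 : uu t • NN t z = NN t z := by
    rw [uu_apply, h2, add_zero]
  rw [ww_eq', mul_smul, mul_smul, e1, e2, e3]

theorem MM_eq_ww_of_fixU [Fintype F] [CharP F 2] (h : FPF F A) (t : F) (ht : t ≠ 0) {z : A}
    (hz : z + z = 0) (hU : z ∈ fixU F A) : MM t⁻¹ z = ww t ht • z := by
  have h1 : NN t (MM t⁻¹ z) = z := by
    have := s3_rel h t ht hz
    rw [NN_of_fix hU, MM_zero, add_zero] at this
    exact this
  rw [ww_eq', mul_smul, mul_smul, hU t, ll_apply, smul_add, hU t, uu_apply, h1]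
  have : z + (MM t⁻¹ z + z) = MM t⁻¹ z + (z + z) := by abel
  rw [this, hz, add_zero]

variable (F A) in
structure Good : Prop where
  two : ∀ a : A, a + a = 0
  fpf : FPF F A
  quad : ∀ (t : F) (a : A), NN t a ∈ fixU F A

lemma Good.qhyp (h : Good F A) : QHyp F A :=
  ⟨fun a hU hL => h.fpf a (by unfold g1; rw [mul_smul, hL 1, hU 1]), h.quad, hT_of_hS h.quad⟩

lemma Good.decomp [Fintype F] [CharP F 2] (h : Good F A) (a : A) :
    NN (1 : F) (MM (1 : F) a) + MM (1 : F) (NN (1 : F) a) = a := by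
  have := s3_rel h.fpf (1 : F) one_ne_zero (h.two a)
  rwa [inv_one] at this

lemma Good.NN_eq_star [Fintype F] [CharP F 2] (h : Good F A) (t : F) (a : A) :
    NN t a = helper15.QS.star t (NN (1 : F) a) := by
  unfold helper15.QS.star
  conv_lhs => rw [← h.decomp a]
  rw [NN_add, NN_of_fix (h.quad _ _), zero_add]

lemma Good.mem_fixU_of_NN [Fintype F] [CharP F 2] (h : Good F A) (t : F) (ht : t ≠ 0) {a : A}
    (hx : NN t a = 0) : a ∈ fixU F A := by
  rw [eq_NN_of_NN_eq_zero h.fpf t ht (h.two a) hx]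
  exact h.quad _ _

lemma Good.mem_fixL_of_MM [Fintype F] [CharP F 2] (h : Good F A) (t : F) (ht : t ≠ 0) {a : A}
    (hx : MM t a = 0) : a ∈ fixL F A := by
  have ht' : t⁻¹ ≠ 0 := inv_ne_zero ht
  have hx' : MM (t⁻¹)⁻¹ a = 0 := by rwa [inv_inv]
  rw [eq_MM_of_MM_eq_zero h.fpf t⁻¹ ht' (h.two a) hx', inv_inv]
  exact h.qhyp.hT _ _

lemma Good.star_inj (h : Good F A) (c : F) (hc : c ≠ 0) {x : A} (hx : x ∈ fixU F A)
    (h0 : helper15.QS.star c x = 0) : x = 0 := by
  have := h.qhyp.star_mul c⁻¹ c hx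
  rw [inv_mul_cancel₀ hc, h.qhyp.star_one hx, h0, star_zero_right] at this
  exact this

@[reducible] def subAct (B : AddSubgroup A)
    (hB : ∀ (g : SpecialLinearGroup (Fin 2) F) (a : A), a ∈ B → g • a ∈ B) :
    DistribMulAction (SpecialLinearGroup (Fin 2) F) B where
  smul g b := ⟨g • (b : A), hB g _ b.2⟩
  one_smul b := Subtype.ext (one_smul _ _)
  mul_smul g h b := Subtype.ext (mul_smul _ _ _)
  smul_zero g := Subtype.ext (smul_zero _)
  smul_add g a b := Subtype.ext (smul_add _ _ _)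

lemma subAct_coe (B : AddSubgroup A)
    (hB : ∀ (g : SpecialLinearGroup (Fin 2) F) (a : A), a ∈ B → g • a ∈ B)
    (g : SpecialLinearGroup (Fin 2) F) (b : B) :
    (((subAct B hB).smul g b : B) : A) = g • (b : A) := rfl

def smulHom (g : SpecialLinearGroup (Fin 2) F) : A →+ A := DistribSMul.toAddMonoidHom A g

lemma smulHom_apply (g : SpecialLinearGroup (Fin 2) F) (a : A) : smulHom g a = g • a := rfl

lemma le_comap_smulHom (B : AddSubgroup A)
    (hB : ∀ (g : SpecialLinearGroup (Fin 2) F) (a : A), a ∈ B → g • a ∈ B)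
    (g : SpecialLinearGroup (Fin 2) F) : B ≤ B.comap (smulHom g) := fun a ha => hB g a ha

@[reducible] def quotAct (B : AddSubgroup A)
    (hB : ∀ (g : SpecialLinearGroup (Fin 2) F) (a : A), a ∈ B → g • a ∈ B) :
    DistribMulAction (SpecialLinearGroup (Fin 2) F) (A ⧸ B) where
  smul g q := QuotientAddGroup.map B B (smulHom g) (le_comap_smulHom B hB g) q
  one_smul q := by
    induction q using QuotientAddGroup.induction_on with
    | _ z =>
      show QuotientAddGroup.map B B (smulHom 1) _ (z : A ⧸ B) = _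
      rw [QuotientAddGroup.map_mk, smulHom_apply, one_smul]
  mul_smul g h q := by
    induction q using QuotientAddGroup.induction_on with
    | _ z =>
      show QuotientAddGroup.map B B (smulHom (g * h)) _ (z : A ⧸ B) =
        QuotientAddGroup.map B B (smulHom g) _ (QuotientAddGroup.map B B (smulHom h) _ (z : A ⧸ B))
      rw [QuotientAddGroup.map_mk, QuotientAddGroup.map_mk, QuotientAddGroup.map_mk, smulHom_apply,
        smulHom_apply, smulHom_apply, mul_smul]
  smul_zero g := map_zero _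
  smul_add g a b := map_add _ _ _

lemma quotAct_mk (B : AddSubgroup A)
    (hB : ∀ (g : SpecialLinearGroup (Fin 2) F) (a : A), a ∈ B → g • a ∈ B)
    (g : SpecialLinearGroup (Fin 2) F) (a : A) :
    (quotAct B hB).smul g (a : A ⧸ B) = ((g • a : A) : A ⧸ B) := rfl

section Quot

variable (B : AddSubgroup A)
  (hB : ∀ (g : SpecialLinearGroup (Fin 2) F) (a : A), a ∈ B → g • a ∈ B)

lemma quot_smul_mk (g : SpecialLinearGroup (Fin 2) F) (a : A) :
    letI := quotAct B hB
    g • (a : A ⧸ B) = ((g • a : A) : A ⧸ B) := rfl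

lemma quot_NN_mk (t : F) (a : A) :
    letI := quotAct B hB
    NN t (a : A ⧸ B) = ((NN t a : A) : A ⧸ B) := rfl

lemma quot_MM_mk (t : F) (a : A) :
    letI := quotAct B hB
    MM t (a : A ⧸ B) = ((MM t a : A) : A ⧸ B) := rfl

lemma quot_mem_fixU_iff (a : A) :
    letI := quotAct B hB
    (a : A ⧸ B) ∈ fixU F (A ⧸ B) ↔ ∀ t : F, NN t a ∈ B := by
  letI := quotAct B hB
  rw [mem_fixU_iff_NN]
  constructor
  · intro h t
    have := h t
    rw [quot_NN_mk B hB] at this
    exact (QuotientAddGroup.eq_zero_iff _).mp this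
  · intro h t
    rw [quot_NN_mk B hB]
    exact (QuotientAddGroup.eq_zero_iff _).mpr (h t)

lemma quot_mem_fixL_iff (a : A) :
    letI := quotAct B hB
    (a : A ⧸ B) ∈ fixL F (A ⧸ B) ↔ ∀ t : F, MM t a ∈ B := by
  letI := quotAct B hB
  rw [mem_fixL_iff_MM]
  constructor
  · intro h t
    have := h t
    rw [quot_MM_mk B hB] at this
    exact (QuotientAddGroup.eq_zero_iff _).mp this
  · intro h t
    rw [quot_MM_mk B hB]
    exact (QuotientAddGroup.eq_zero_iff _).mpr (h t)

theorem FPF.quot [CharP F 2] (h : FPF F A) (h2 : ∀ a : A, ∃ k : ℕ, 2 ^ k • a = 0) :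
    letI := quotAct B hB
    FPF F (A ⧸ B) := by
  letI := quotAct B hB
  intro q hq
  induction q using QuotientAddGroup.induction_on with
  | _ a =>
    rw [quot_smul_mk B hB, QuotientAddGroup.eq] at hq
    have hd : g1 F • a - a ∈ B := by
      have : g1 F • a - a = -(-(g1 F • a) + a) := by abel
      rw [this]; exact B.neg_mem hq
    have hg3 : g1 F * (g1 F * g1 F) = 1 := by
      have := g1_pow_three (F := F)
      rw [pow_succ, pow_succ, pow_one, mul_assoc] at this
      exact this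
    have he : g1 F • (a + g1 F • a + g1 F • (g1 F • a)) = a + g1 F • a + g1 F • (g1 F • a) := by
      simp only [smul_add, ← mul_smul, hg3, one_smul]
      abel
    have h0 := h _ he
    have h3 : (3 : ℤ) • a ∈ B := by
      have e : (3 : ℤ) • a = (a + g1 F • a + g1 F • (g1 F • a)) - ((g1 F • a - a) + (g1 F • a - a)
          + g1 F • (g1 F • a - a)) := by
        rw [smul_sub]
        have : (3 : ℤ) • a = a + a + a := by
          rw [show (3 : ℤ) = 1 + 1 + 1 by norm_num, add_smul, add_smul, one_smul]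
        rw [this]
        abel
      rw [e, h0, zero_sub]
      exact B.neg_mem (B.add_mem (B.add_mem hd hd) (hB _ _ hd))
    obtain ⟨k, hk⟩ := h2 a
    have hcop : IsCoprime (3 : ℤ) ((2 : ℤ) ^ k) := by
      apply IsCoprime.pow_right
      norm_num
    obtain ⟨x, y, hxy⟩ := hcop
    have ha : a = x • ((3 : ℤ) • a) + y • (((2 : ℤ) ^ k) • a) := by
      rw [← mul_smul, ← mul_smul, ← add_smul, hxy, one_smul]
    have hk' : ((2 : ℤ) ^ k) • a = 0 := by
      have : ((2 : ℤ) ^ k) • a = ((2 ^ k : ℕ) : ℤ) • a := by push_cast; rfl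
      rw [this, natCast_zsmul, hk]
    rw [hk', smul_zero, add_zero] at ha
    rw [QuotientAddGroup.eq_zero_iff, ha]
    exact B.zsmul_mem h3 x

end Quot

variable (F A) in
@[reducible] def uact : MulAction (Multiplicative F) A where
  smul s a := uu (Multiplicative.toAdd s) • a
  one_smul a := by
    show uu (Multiplicative.toAdd (1 : Multiplicative F)) • a = a
    rw [toAdd_one, uu_zero, one_smul]
  mul_smul s t a := by
    show uu (Multiplicative.toAdd (s * t)) • a =
      uu (Multiplicative.toAdd s) • (uu (Multiplicative.toAdd t) • a)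
    rw [toAdd_mul, ← uu_mul, mul_smul]

theorem exists_fixU_ne_zero [Fintype F] [CharP F 2] [Finite A] [Nontrivial A]
    (h2 : ∀ a : A, ∃ k : ℕ, 2 ^ k • a = 0) :
    ∃ z : A, z ≠ 0 ∧ z ∈ fixU F A := by
  haveI : Fact (Nat.Prime 2) := ⟨Nat.prime_two⟩
  have hP : IsPGroup 2 (Multiplicative F) := by
    obtain ⟨m, hp, hcard⟩ := FiniteField.card F 2
    apply IsPGroup.of_card (n := (m : ℕ))
    rw [← hcard, ← Nat.card_eq_fintype_card]
    exact Nat.card_congr Multiplicative.toAdd
  letI := uact F A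
  have hdvd : 2 ∣ Nat.card A := by
    obtain ⟨a, ha⟩ := exists_ne (0 : A)
    obtain ⟨k, hk⟩ := h2 a
    have h1 : addOrderOf a ∣ 2 ^ k := addOrderOf_dvd_of_nsmul_eq_zero hk
    obtain ⟨j, hj, hjk⟩ := (Nat.dvd_prime_pow Nat.prime_two).mp h1
    have hj0 : j ≠ 0 := by
      rintro rfl
      rw [pow_zero] at hjk
      exact ha (AddMonoid.addOrderOf_eq_one_iff.mp hjk)
    have : 2 ∣ addOrderOf a := by
      rw [hjk]; exact dvd_pow_self 2 hj0
    exact this.trans (addOrderOf_dvd_natCard a)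
  have hfix0 : (0 : A) ∈ MulAction.fixedPoints (Multiplicative F) A := by
    intro s
    show uu (Multiplicative.toAdd s) • (0 : A) = 0
    rw [smul_zero]
  obtain ⟨b, hb, hb0⟩ := hP.exists_fixed_point_of_prime_dvd_card_of_fixed_point A hdvd hfix0
  refine ⟨b, fun h => hb0 h.symm, fun t => ?_⟩
  exact hb (Multiplicative.ofAdd t)

theorem exists_fixU_two [Fintype F] [CharP F 2] [Finite A] [Nontrivial A]
    (h2 : ∀ a : A, ∃ k : ℕ, 2 ^ k • a = 0) :
    ∃ z : A, z ≠ 0 ∧ z + z = 0 ∧ z ∈ fixU F A := by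
  obtain ⟨b, hb0, hbU⟩ := exists_fixU_ne_zero (F := F) h2
  classical
  have hex : ∃ k : ℕ, 2 ^ k • b = 0 := h2 b
  have hk0 : Nat.find hex ≠ 0 := by
    intro h
    have := Nat.find_spec hex
    rw [h, pow_zero, one_smul] at this
    exact hb0 this
  obtain ⟨m, hm⟩ := Nat.exists_eq_succ_of_ne_zero hk0
  refine ⟨2 ^ m • b, ?_, ?_, (fixU F A).nsmul_mem hbU _⟩
  · intro h
    have : m < Nat.find hex := by omega
    exact Nat.find_min hex this h
  · have := Nat.find_spec hex
    rw [hm, pow_succ, mul_comm, mul_smul, two_smul] at this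
    exact this

variable (A) in
def tors2 : AddSubgroup A where
  carrier := {a | a + a = 0}
  zero_mem' := by simp
  add_mem' := by
    intro a b ha hb
    show a + b + (a + b) = 0
    have : a + b + (a + b) = (a + a) + (b + b) := by abel
    rw [this, ha, hb, add_zero]
  neg_mem' := by
    intro a ha
    show -a + -a = 0
    rw [← neg_add, ha, neg_zero]

lemma mem_tors2 {a : A} : a ∈ tors2 A ↔ a + a = 0 := Iff.rfl

variable (F A) in
def Wsub : AddSubgroup A := (fixU F A ⊓ tors2 A) ⊔ (fixL F A ⊓ tors2 A)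

end Mod


end Cfsg.Agent.Lib.Helper1.Hig
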