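import Mathlib
import Cfsg.Agent.Lib.Helper1.Hig.Basic

set_option autoImplicit false
set_option linter.unusedVariables false
set_option linter.unusedSimpArgs false
set_option linter.style.haveILetI false
set_option linter.unusedSectionVars false

namespace Cfsg.Agent.Lib.Helper1.Hig

open Matrix Cfsg.Agent.Lib.helper15.NatMod Cfsg.Agent.Lib.helper15.QS

universe u v

variable {F : Type u} [Field F] [Fintype F] [CharP F 2] {A : Type v} [AddCommGroup A]
  [DistribMulAction (SpecialLinearGroup (Fin 2) F) A]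

section GoodLemmas

def mm (c : F) (a : A) : A := MM (1 : F) (NN c a)

lemma NN_sub' (t : F) (a b : A) : NN t (a - b) = NN t a - NN t b := by
  have := NN_add t (a - b) b
  rw [sub_add_cancel] at this
  rw [this, add_sub_cancel_right]

lemma mm_add (c : F) (a b : A) : mm c (a + b) = mm c a + mm c b := by
  unfold mm; rw [NN_add, MM_add]

lemma Good.NN_mm (h : Good F A) (c : F) (a : A) : NN (1 : F) (mm c a) = NN c a := by
  unfold mm
  exact h.qhyp.star_one (h.quad c a)

lemma Good.mm_mul (h : Good F A) (c d : F) (a : A) : mm c (mm d a) = mm (c * d) a := by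
  unfold mm
  have h1 : NN d a = helper15.QS.star d (NN (1 : F) a) := h.NN_eq_star d a
  have h2 : NN c (MM (1 : F) (NN d a)) = helper15.QS.star c (helper15.QS.star d (NN (1 : F) a)) := by
    rw [h1]; rfl
  rw [h2, ← h.qhyp.star_mul c d (h.quad 1 a), ← h.NN_eq_star]

lemma Good.dd_sub_mm (h : Good F A) (l : F) (hl : l ≠ 0) (a : A) :
    dd l hl • a - mm l⁻¹ a ∈ fixU F A := by
  have hq := h.qhyp
  have he : NN (1 : F) a ∈ fixU F A := h.quad 1 a
  have h1 : dd l hl • MM (1 : F) (NN (1 : F) a) = mm l⁻¹ a := by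
    unfold mm
    rw [dd_MM, ← hq.star_eq_dd l hl he, hq.MM_eq (1 / l ^ 2) (hq.star_mem _ _),
      ← hq.star_mul _ _ he, ← h.NN_eq_star]
    congr 2
    field_simp
  have h2 : dd l hl • a = dd l hl • NN (1 : F) (MM (1 : F) a) + mm l⁻¹ a := by
    rw [← h1, ← smul_add, h.decomp]
  rw [h2, add_sub_cancel_right]
  exact dd_fixU l hl (h.quad _ _)

omit [Fintype F] [CharP F 2] [DistribMulAction (SpecialLinearGroup (Fin 2) F) A] in
lemma eq_of_add_eq_zero (h2A : ∀ a : A, a + a = 0) {x y : A} (h : x + y = 0) : x = y := by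
  have := eq_neg_of_add_eq_zero_left h
  rw [this, neg_of_two_tors (h2A y)]

end GoodLemmas

structure ExtHyp (F : Type u) [Field F] [Fintype F] [CharP F 2] (A : Type v) [AddCommGroup A]
    [DistribMulAction (SpecialLinearGroup (Fin 2) F) A] (W : AddSubgroup A) : Prop where
  fpf : FPF F A
  inv : ∀ (g : SpecialLinearGroup (Fin 2) F) (a : A), a ∈ W → g • a ∈ W
  w2 : ∀ a ∈ W, a + a = 0
  wq : ∀ (t : F), ∀ a ∈ W, NN t a ∈ fixU F A
  q2 : ∀ a : A, a + a ∈ W
  qq : ∀ (s t : F) (a : A), NN s (NN t a) ∈ W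

namespace ExtHyp

variable {W : AddSubgroup A} (H : ExtHyp F A W)
include H

lemma NN_mem {a : A} (ha : a ∈ W) (t : F) : NN t a ∈ W := by
  unfold NN; exact W.sub_mem (H.inv _ _ ha) ha

lemma MM_mem {a : A} (ha : a ∈ W) (t : F) : MM t a ∈ W := by
  unfold MM; exact W.sub_mem (H.inv _ _ ha) ha

lemma four (a : A) : ∃ k : ℕ, 2 ^ k • a = 0 := by
  refine ⟨2, ?_⟩
  have := H.w2 _ (H.q2 a)
  have e : 2 ^ 2 • a = (a + a) + (a + a) := by
    norm_num
    rw [show (4 : ℕ) = 2 + 2 by norm_num, add_smul, two_smul]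
  rw [e, this]

lemma goodW : letI := subAct W H.inv; Good F W := by
  letI := subAct W H.inv
  refine ⟨fun a => Subtype.ext (H.w2 _ a.2), fun a ha => ?_, fun t a s => ?_⟩
  · have := congrArg Subtype.val ha
    exact Subtype.ext (H.fpf _ this)
  · exact Subtype.ext (H.wq t _ a.2 s)

lemma goodQ : letI := quotAct W H.inv; Good F (A ⧸ W) := by
  letI := quotAct W H.inv
  refine ⟨fun q => ?_, FPF.quot W H.inv H.fpf H.four, fun t q => ?_⟩
  · induction q using QuotientAddGroup.induction_on with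
    | _ a =>
      rw [← QuotientAddGroup.mk_add]
      exact (QuotientAddGroup.eq_zero_iff _).mpr (H.q2 a)
  · induction q using QuotientAddGroup.induction_on with
    | _ a =>
      rw [quot_NN_mk W H.inv, quot_mem_fixU_iff W H.inv]
      intro s
      exact H.qq s t a

lemma coe_star (c : F) (w : W) :
    letI := subAct W H.inv
    ((helper15.QS.star c w : W) : A) = helper15.QS.star c (w : A) := rfl

lemma memW_fixU_iff (w : W) :
    letI := subAct W H.inv
    w ∈ fixU F W ↔ (w : A) ∈ fixU F A := by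
  letI := subAct W H.inv
  constructor
  · intro h t
    exact congrArg Subtype.val (h t)
  · intro h t
    exact Subtype.ext (h t)

lemma star_mul_W {z : A} (hz : z ∈ W) (hzU : z ∈ fixU F A) (c d : F) :
    helper15.QS.star (c * d) z = helper15.QS.star c (helper15.QS.star d z) := by
  letI := subAct W H.inv
  have h1 := H.goodW.qhyp.star_mul c d ((H.memW_fixU_iff ⟨z, hz⟩).mpr hzU)
  exact congrArg Subtype.val h1

lemma star_one_W {z : A} (hz : z ∈ W) (hzU : z ∈ fixU F A) :
    helper15.QS.star (1 : F) z = z := by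
  letI := subAct W H.inv
  have h1 := H.goodW.qhyp.star_one ((H.memW_fixU_iff ⟨z, hz⟩).mpr hzU)
  exact congrArg Subtype.val h1

lemma star_dd_W {z : A} (hz : z ∈ W) (hzU : z ∈ fixU F A) (c : F) (hc : c ≠ 0) :
    helper15.QS.star c z = dd c hc • z := by
  letI := subAct W H.inv
  have h1 := H.goodW.qhyp.star_eq_dd c hc ((H.memW_fixU_iff ⟨z, hz⟩).mpr hzU)
  exact congrArg Subtype.val h1

lemma star_add_W {b : A} (hb : b ∈ W) (c d : F) :
    helper15.QS.star (c + d) b = helper15.QS.star c b + helper15.QS.star d b := by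
  letI := subAct W H.inv
  have h1 := H.goodW.qhyp.star_add_left c d (⟨b, hb⟩ : W)
  exact congrArg Subtype.val h1

lemma star_mem_W {b : A} (hb : b ∈ W) (c : F) :
    helper15.QS.star c b ∈ W ∧ helper15.QS.star c b ∈ fixU F A :=
  ⟨H.NN_mem (H.MM_mem hb _) _, H.wq _ _ (H.MM_mem hb _)⟩

lemma star_inj_W {z : A} (hz : z ∈ W) (hzU : z ∈ fixU F A) (c : F) (hc : c ≠ 0)
    (h0 : helper15.QS.star c z = 0) : z = 0 := by
  letI := subAct W H.inv
  have h1 := H.goodW.star_inj c hc ((H.memW_fixU_iff ⟨z, hz⟩).mpr hzU) (Subtype.ext h0)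
  exact congrArg Subtype.val h1

lemma NN_eq_star_W {w : A} (hw : w ∈ W) (t : F) :
    NN t w = helper15.QS.star t (NN (1 : F) w) := by
  letI := subAct W H.inv
  have h1 := H.goodW.NN_eq_star t (⟨w, hw⟩ : W)
  exact congrArg Subtype.val h1

lemma mem_fixU_of_NN_W {w : A} (hw : w ∈ W) (t : F) (ht : t ≠ 0) (h0 : NN t w = 0) :
    w ∈ fixU F A := by
  letI := subAct W H.inv
  have h1 := H.goodW.mem_fixU_of_NN t ht (a := (⟨w, hw⟩ : W)) (Subtype.ext h0)
  exact (H.memW_fixU_iff ⟨w, hw⟩).mp h1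

lemma Q_b (c : F) (a : A) : NN c a - NN (1 : F) (mm c a) ∈ W := by
  letI := quotAct W H.inv
  have h1 := H.goodQ.NN_mm c (a : A ⧸ W)
  have h2 : ((NN c a - NN (1 : F) (mm c a) : A) : A ⧸ W) = 0 := by
    rw [QuotientAddGroup.mk_sub]
    exact sub_eq_zero.mpr h1.symm
  exact (QuotientAddGroup.eq_zero_iff _).mp h2

lemma Q_c (c d : F) (a : A) : mm c (mm d a) - mm (c * d) a ∈ W := by
  letI := quotAct W H.inv
  have h1 := H.goodQ.mm_mul c d (a : A ⧸ W)
  have h2 : ((mm c (mm d a) - mm (c * d) a : A) : A ⧸ W) = 0 := by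
    rw [QuotientAddGroup.mk_sub]
    exact sub_eq_zero.mpr h1
  exact (QuotientAddGroup.eq_zero_iff _).mp h2

lemma Q_e (l : F) (hl : l ≠ 0) (a : A) (s : F) : NN s (dd l hl • a - mm l⁻¹ a) ∈ W := by
  letI := quotAct W H.inv
  have h1 := H.goodQ.dd_sub_mm l hl (a : A ⧸ W)
  have h2 : (((dd l hl • a - mm l⁻¹ a : A) : A ⧸ W)) ∈ fixU F (A ⧸ W) := h1
  exact (quot_mem_fixU_iff W H.inv _).mp h2 s

def TT (b : F) (a : A) : A := NN (1 : F) (NN b a)

lemma neg_W {w : A} (hw : w ∈ W) : -w = w := neg_of_two_tors (H.w2 w hw)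

lemma Z0_of_A0 {y : A} (hy : ∀ s : F, NN s y ∈ W) (t : F) :
    NN t y ∈ W ∧ NN t y ∈ fixU F A := by
  refine ⟨hy t, ?_⟩
  by_cases ht : t = 0
  · subst ht; rw [NN_param_zero]; exact (fixU F A).zero_mem
  · apply H.mem_fixU_of_NN_W (hy t) t ht
    rw [NN_self, H.w2 _ (hy t), neg_zero]

lemma TT_mem (b : F) (a : A) : TT b a ∈ W ∧ TT b a ∈ fixU F A :=
  H.Z0_of_A0 (fun s => H.qq s b a) 1

lemma TT_of_A0 {y : A} (hy : ∀ s : F, NN s y ∈ W) (b : F) : TT b y = 0 :=
  NN_of_fix (H.Z0_of_A0 hy b).2 1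

omit H in
lemma TT_add (b : F) (a a' : A) : TT b (a + a') = TT b a + TT b a' := by
  unfold TT; rw [NN_add, NN_add]

omit H in
lemma TT_sub (b : F) (a a' : A) : TT b (a - a') = TT b a - TT b a' := by
  have := TT_add b (a - a') a'
  rw [sub_add_cancel] at this
  rw [this, add_sub_cancel_right]

lemma TT_congr {a a' : A} (h : ∀ s : F, NN s (a - a') ∈ W) (b : F) : TT b a = TT b a' := by
  have := H.TT_of_A0 h b
  rw [TT_sub] at this
  exact sub_eq_zero.mp this

lemma TT_param_add (b b' : F) (a : A) : TT (b + b') a = TT b a + TT b' a := by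
  have h1 : NN (1 : F) (NN b (NN b' a)) = 0 := by
    rw [NN_comm]
    exact NN_of_fix (H.TT_mem b' a).2 b
  unfold TT at *
  rw [NN_param_add', NN_add, NN_add, h1, add_zero]

omit H in
lemma TT_param_zero (a : A) : TT (0 : F) a = 0 := by
  unfold TT; rw [NN_param_zero, NN_zero]

def nn (a : A) : A := NN (1 : F) (a + a)

lemma nn_mem (a : A) : nn (F := F) a ∈ W ∧ nn (F := F) a ∈ fixU F A :=
  ⟨H.NN_mem (H.q2 a) 1, H.wq 1 _ (H.q2 a)⟩

lemma NN_mm_W {w : A} (hw : w ∈ W) (c : F) :
    NN (1 : F) (mm c w) = helper15.QS.star c (NN (1 : F) w) := by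
  have h1 : NN (1 : F) (mm c w) = helper15.QS.star (1 : F) (NN c w) := rfl
  rw [h1, H.star_one_W (H.NN_mem hw c) (H.wq c w hw), H.NN_eq_star_W hw]

lemma nn_mm (c : F) (a : A) : nn (F := F) (mm c a) = helper15.QS.star c (nn (F := F) a) := by
  unfold nn
  rw [← mm_add, H.NN_mm_W (H.q2 a)]

theorem KF (c b : F) (a : A) :
    NN c (NN b a) = TT c (mm b a) + helper15.QS.star c (TT b a)
      + helper15.QS.star c (helper15.QS.star b (nn (F := F) a)) := by
  set z := NN b a - NN (1 : F) (mm b a) with hz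
  have hzW : z ∈ W := H.Q_b b a
  have e1 : NN b a = NN (1 : F) (mm b a) + z := by rw [hz]; abel
  have e2 : NN c (NN (1 : F) (mm b a)) = TT c (mm b a) := by
    unfold TT; rw [NN_comm]
  have e3 : NN (1 : F) z = TT b a + helper15.QS.star b (nn (F := F) a) := by
    rw [hz, NN_sub', NN_self]
    have h1 : NN (1 : F) (mm b a) + NN (1 : F) (mm b a) = helper15.QS.star b (nn (F := F) a) := by
      rw [← H.nn_mm]
      unfold nn
      rw [NN_add]
    rw [h1]
    unfold TT
    abel
  rw [e1, NN_add, e2, H.NN_eq_star_W hzW c, e3, star_add_right]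
  abel

def cc (b c : F) (a : A) : A := TT b (mm c a) + helper15.QS.star c (TT b a)

lemma star_Z0 {z : A} (hz : z ∈ W) (c : F) :
    helper15.QS.star c z ∈ W ∧ helper15.QS.star c z ∈ fixU F A := H.star_mem_W hz c

lemma cc_mem (b c : F) (a : A) : cc b c a ∈ W ∧ cc b c a ∈ fixU F A := by
  unfold cc
  exact ⟨W.add_mem (H.TT_mem _ _).1 (H.star_Z0 (H.TT_mem _ _).1 _).1,
    (fixU F A).add_mem (H.TT_mem _ _).2 (H.star_Z0 (H.TT_mem _ _).1 _).2⟩

lemma star_comm_W {z : A} (hz : z ∈ W) (hzU : z ∈ fixU F A) (c d : F) :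
    helper15.QS.star c (helper15.QS.star d z) = helper15.QS.star d (helper15.QS.star c z) := by
  rw [← H.star_mul_W hz hzU, ← H.star_mul_W hz hzU, mul_comm]

theorem cc_symm (b c : F) (a : A) : cc b c a = cc c b a := by
  have h1 := H.KF c b a
  have h2 := H.KF b c a
  rw [NN_comm] at h1
  rw [h1, H.star_comm_W (H.nn_mem a).1 (H.nn_mem a).2 c b] at h2
  have h3 : TT c (mm b a) + helper15.QS.star c (TT b a) =
      TT b (mm c a) + helper15.QS.star b (TT c a) := add_right_cancel h2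
  unfold cc
  have hS := H.w2 _ (H.star_Z0 (H.TT_mem c a).1 b).1
  have hQ := H.w2 _ (H.star_Z0 (H.TT_mem b a).1 c).1
  have e : TT b (mm c a) + helper15.QS.star c (TT b a) =
      (TT b (mm c a) + helper15.QS.star b (TT c a)) + helper15.QS.star c (TT b a)
        + helper15.QS.star b (TT c a)
        - (helper15.QS.star b (TT c a) + helper15.QS.star b (TT c a)) := by abel
  rw [e, ← h3, hS, sub_zero]
  have e2 : TT c (mm b a) + helper15.QS.star c (TT b a) + helper15.QS.star c (TT b a)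
      + helper15.QS.star b (TT c a) = TT c (mm b a) + helper15.QS.star b (TT c a)
        + (helper15.QS.star c (TT b a) + helper15.QS.star c (TT b a)) := by abel
  rw [e2, hQ, add_zero]

theorem cc_diag (b : F) (a : A) : cc b b a = helper15.QS.star (b + b * b) (nn (F := F) a) := by
  have h1 := H.KF b b a
  have hn := H.nn_mem (F := F) a
  have h2 : NN b (NN b a) = helper15.QS.star b (nn (F := F) a) := by
    rw [NN_self, ← NN_add, H.NN_eq_star_W (H.q2 a) b]
    exact H.neg_W (H.star_Z0 (H.NN_mem (H.q2 a) 1) b).1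
  rw [h2, ← H.star_mul_W hn.1 hn.2] at h1
  rw [H.star_add_W hn.1, h1]
  have hx := H.w2 _ (H.star_Z0 hn.1 (b * b)).1
  show cc b b a = TT b (mm b a) + helper15.QS.star b (TT b a) + helper15.QS.star (b * b) (nn a)
      + helper15.QS.star (b * b) (nn a)
  rw [add_assoc, hx, add_zero]
  rfl

theorem cc_deriv (b c c' : F) (a : A) :
    cc b (c * c') a = cc b c (mm c' a) + helper15.QS.star c (cc b c' a) := by
  unfold cc
  have h1 : TT b (mm c (mm c' a)) = TT b (mm (c * c') a) :=
    H.TT_congr (fun s => H.NN_mem (H.Q_c c c' a) s) b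
  have hT := H.TT_mem b a
  have hx := H.w2 _ (H.star_Z0 (H.TT_mem b (mm c' a)).1 c).1
  rw [star_add_right, ← H.star_mul_W hT.1 hT.2, h1]
  have e : TT b (mm (c * c') a) + helper15.QS.star c (TT b (mm c' a)) +
      (helper15.QS.star c (TT b (mm c' a)) + helper15.QS.star (c * c') (TT b a)) =
      TT b (mm (c * c') a) + helper15.QS.star (c * c') (TT b a) +
      (helper15.QS.star c (TT b (mm c' a)) + helper15.QS.star c (TT b (mm c' a))) := by abel
  rw [e, hx, add_zero]

theorem cc_sq (b : F) (a : A) : cc b (b * b) a = 0 := by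
  have hn := H.nn_mem (F := F) a
  rw [H.cc_deriv, H.cc_diag, H.cc_diag, H.nn_mm, ← H.star_mul_W hn.1 hn.2,
    ← H.star_mul_W hn.1 hn.2, mul_comm b (b + b * b)]
  exact H.w2 _ (H.star_Z0 hn.1 _).1

theorem cc_sq_sq (b : F) (a : A) : cc (b * b) (b * b) a = 0 := by
  rw [H.cc_deriv, H.cc_symm (b * b) b, H.cc_symm (b * b) b, H.cc_sq, H.cc_sq, star_zero_right,
    add_zero]

omit H in
lemma exists_ne_zero_one (hF : 3 ≤ Fintype.card F) : ∃ b : F, b ≠ 0 ∧ b ≠ 1 := by
  classical
  by_contra hcon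
  push Not at hcon
  have hsub : (Finset.univ : Finset F) ⊆ {0, 1} := by
    intro b _
    by_cases hb : b = 0
    · simp [hb]
    · simp [hcon b hb]
  have := Finset.card_le_card hsub
  have h2 : ({0, 1} : Finset F).card ≤ 2 := Finset.card_insert_le _ _
  rw [Finset.card_univ] at this
  omega

theorem nn_zero (hF : 3 ≤ Fintype.card F) (a : A) : nn (F := F) a = 0 := by
  obtain ⟨b, hb0, hb1⟩ := exists_ne_zero_one hF
  have hn := H.nn_mem (F := F) a
  have h1 := H.cc_diag (b * b) a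
  rw [H.cc_sq_sq] at h1
  refine H.star_inj_W hn.1 hn.2 _ ?_ h1.symm
  have : b * b + b * b * (b * b) = (b * (b + 1)) ^ 2 := by
    have h2 : (2 : F) = 0 := CharTwo.two_eq_zero
    linear_combination (-(b ^ 3)) * h2
  rw [this]
  apply pow_ne_zero
  apply mul_ne_zero hb0
  intro h
  apply hb1
  have := CharTwo.add_eq_zero.mp h
  exact this

theorem two_A (hF : 3 ≤ Fintype.card F) (a : A) : a + a = 0 := by
  have hU : ∀ a : A, a + a ∈ fixU F A := fun a =>
    H.mem_fixU_of_NN_W (H.q2 a) 1 one_ne_zero (H.nn_zero hF a)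
  have hL : a + a ∈ fixL F A := by
    have h1 := hU ((ww (1 : F) one_ne_zero)⁻¹ • a)
    have h2 := ww_fixU_mem_fixL (1 : F) one_ne_zero h1
    rw [smul_add, ← mul_smul, mul_inv_cancel, one_smul] at h2
    exact h2
  apply H.fpf
  unfold g1
  rw [mul_smul, hL 1, hU a 1]

section Phase2

variable (h2A : ∀ a : A, a + a = 0)
include h2A

lemma nn_eq_zero (a : A) : nn (F := F) a = 0 := by
  unfold nn; rw [h2A, NN_zero]

theorem KF2 (c b : F) (a : A) :
    NN c (NN b a) = TT c (mm b a) + helper15.QS.star c (TT b a) := by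
  rw [H.KF, H.nn_eq_zero h2A, star_zero_right, star_zero_right, add_zero]

theorem cc_diag2 (b : F) (a : A) : cc b b a = 0 := by
  rw [H.cc_diag, H.nn_eq_zero h2A, star_zero_right]

omit h2A in
theorem cc_add_left (b b' c : F) (a : A) : cc (b + b') c a = cc b c a + cc b' c a := by
  unfold cc
  rw [H.TT_param_add, H.TT_param_add, star_add_right]
  abel

omit h2A in
theorem cc_add_right (b c c' : F) (a : A) : cc b (c + c') a = cc b c a + cc b c' a := by
  unfold cc
  have hw : MM (1 : F) (NN c (NN c' a)) ∈ W := H.MM_mem (H.qq c c' a) 1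
  have h1 : mm (c + c') a = mm c a + mm c' a + MM (1 : F) (NN c (NN c' a)) := by
    unfold mm
    rw [NN_param_add', MM_add, MM_add]
  have h2 : TT b (MM (1 : F) (NN c (NN c' a))) = 0 :=
    H.TT_of_A0 (fun s => H.NN_mem hw s) b
  rw [h1, TT_add, TT_add, h2, add_zero, H.star_add_W (H.TT_mem b a).1]
  abel

omit h2A in
theorem cc_zero_right (b : F) (a : A) : cc b 0 a = 0 := by
  unfold cc mm TT
  rw [NN_param_zero, MM_zero, NN_zero, NN_zero, star_zero_left, add_zero]

theorem cc_one (b : F) (a : A) : cc b 1 a = 0 := by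
  unfold cc
  have hT := H.TT_mem b a
  have h1 : TT b (mm (1 : F) a) = TT b a := by
    apply H.TT_congr
    intro s
    have h3 := s3_rel H.fpf (1 : F) one_ne_zero (h2A a)
    rw [inv_one] at h3
    have h4 : mm (1 : F) a - a = -NN (1 : F) (MM (1 : F) a) := by
      calc mm (1 : F) a - a = mm (1 : F) a - (NN (1 : F) (MM (1 : F) a) + MM (1 : F) (NN (1 : F) a)) := by
            rw [h3]
        _ = -NN (1 : F) (MM (1 : F) a) := by unfold mm; abel
    rw [h4, NN_neg]
    exact W.neg_mem (H.qq s 1 _)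
  rw [h1, H.star_one_W hT.1 hT.2]
  exact h2A _

theorem cc_zero (b c : F) (a : A) : cc b c a = 0 := by
  obtain ⟨z, hz⟩ := IsCyclic.exists_monoid_generator (α := Fˣ)
  have hpow : ∀ d : F, d ≠ 0 → ∃ k : ℕ, d = (z : F) ^ k := by
    intro d hd
    obtain ⟨k, hk⟩ := (Submonoid.mem_powers_iff _ _).mp (hz (Units.mk0 d hd))
    refine ⟨k, ?_⟩
    have := congrArg (fun u : Fˣ => (u : F)) hk
    simpa using this.symm
  have step : ∀ (d : F), (∀ a : A, cc d (z : F) a = 0) → ∀ (k : ℕ) (a : A), cc d ((z : F) ^ k) a = 0 := by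
    intro d hd k
    induction k with
    | zero => intro a; rw [pow_zero]; exact H.cc_one h2A d a
    | succ k ih =>
      intro a
      rw [pow_succ, H.cc_deriv, ih, hd, star_zero_right, add_zero]
  have hz1 : ∀ (d : F) (a : A), cc (z : F) d a = 0 := by
    intro d a
    by_cases hd : d = 0
    · subst hd; exact H.cc_zero_right _ a
    · obtain ⟨k, rfl⟩ := hpow d hd
      exact step (z : F) (fun a => H.cc_diag2 h2A _ a) k a
  have hz2 : ∀ (d : F) (a : A), cc d (z : F) a = 0 := by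
    intro d a; rw [H.cc_symm]; exact hz1 d a
  by_cases hc : c = 0
  · subst hc; exact H.cc_zero_right _ a
  · obtain ⟨k, rfl⟩ := hpow c hc
    exact step b (hz2 b) k a

theorem KL (b c : F) (a : A) : TT b (mm c a) = helper15.QS.star c (TT b a) :=
  eq_of_add_eq_zero h2A (H.cc_zero h2A b c a)

theorem BF (c b : F) (a : A) :
    NN c (NN b a) = helper15.QS.star b (TT c a) + helper15.QS.star c (TT b a) := by
  rw [H.KF2 h2A, H.KL h2A]

theorem TT_dd (l : F) (hl : l ≠ 0) (b : F) (a : A) :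
    TT b (dd l hl • a) = helper15.QS.star l⁻¹ (TT b a) := by
  rw [H.TT_congr (fun s => H.Q_e l hl a s) b, H.KL h2A]

theorem E1 (l : F) (hl : l ≠ 0) (al : F) (a : A) :
    helper15.QS.star l (TT al a) = helper15.QS.star (l * al) (TT (l ^ 2) a)
      + helper15.QS.star l (TT (l ^ 2 * al) a) := by
  have hT := H.TT_mem al a
  have h1 : dd l hl • TT al a = NN (l ^ 2 * 1) (NN (l ^ 2 * al) (dd l hl • a)) := by
    unfold TT
    rw [dd_NN, dd_NN]
  rw [H.star_dd_W hT.1 hT.2 l hl, h1, H.BF h2A, H.TT_dd h2A, H.TT_dd h2A, mul_one,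
    ← H.star_mul_W (H.TT_mem _ a).1 (H.TT_mem _ a).2,
    ← H.star_mul_W (H.TT_mem _ a).1 (H.TT_mem _ a).2]
  congr 2
  · field_simp
  · field_simp

theorem E1' (m : F) (hm : m ≠ 0) (al : F) (a : A) :
    TT al a = helper15.QS.star al (TT m a) + TT (m * al) a := by
  obtain ⟨l, rfl⟩ := exists_sq m
  have hl : l ≠ 0 := by rintro rfl; simp at hm
  have h1 := congrArg (helper15.QS.star l⁻¹) (H.E1 h2A l hl al a)
  have hT1 := H.TT_mem al a
  have hT2 := H.TT_mem (l ^ 2) a
  have hT3 := H.TT_mem (l ^ 2 * al) a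
  rw [star_add_right, ← H.star_mul_W hT1.1 hT1.2, ← H.star_mul_W hT2.1 hT2.2,
    ← H.star_mul_W hT3.1 hT3.2, inv_mul_cancel₀ hl, H.star_one_W hT1.1 hT1.2,
    H.star_one_W hT3.1 hT3.2, ← mul_assoc, inv_mul_cancel₀ hl, one_mul] at h1
  exact h1

theorem TT_one (a : A) : TT (1 : F) a = 0 := by
  unfold TT
  rw [NN_self, ← NN_add, h2A, NN_zero, neg_zero]

theorem TT_zero (m : F) (a : A) : TT m a = 0 := by
  by_cases h0 : m = 0
  · subst h0; exact TT_param_zero a
  by_cases h1 : m = 1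
  · subst h1; exact H.TT_one h2A a
  have hal : (1 : F) + m ≠ 0 := by
    intro h
    apply h1
    exact (CharTwo.add_eq_zero.mp h).symm
  have hT := H.TT_mem m a
  have e1 := H.E1' h2A m h0 (1 + m) a
  have e2 := H.E1' h2A (1 + m) hal m a
  have e3 : TT (1 + m) a = TT m a := by
    rw [H.TT_param_add, H.TT_one h2A, zero_add]
  rw [e3] at e1 e2
  rw [mul_comm (1 + m) m] at e2
  have e4 : helper15.QS.star (1 + m) (TT m a) = helper15.QS.star m (TT m a) := by
    have := e1.symm.trans e2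
    exact add_right_cancel this
  rw [H.star_add_W hT.1, H.star_one_W hT.1 hT.2] at e4
  have e5 : TT m a + helper15.QS.star m (TT m a) = 0 + helper15.QS.star m (TT m a) := by
    rw [e4, zero_add]
  exact add_right_cancel e5

theorem quad_A (b : F) (a : A) : NN b a ∈ fixU F A := by
  rw [mem_fixU_iff_NN]
  intro c
  rw [H.BF h2A, H.TT_zero h2A, H.TT_zero h2A, star_zero_right, star_zero_right, add_zero]

end Phase2

end ExtHyp

theorem ext_good (hF : 4 ≤ Fintype.card F) (h : FPF F A) (W : AddSubgroup A)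
    (hWinv : ∀ (g : SpecialLinearGroup (Fin 2) F) (a : A), a ∈ W → g • a ∈ W)
    (hW2 : ∀ a ∈ W, a + a = 0)
    (hWq : ∀ (t : F), ∀ a ∈ W, NN t a ∈ fixU F A)
    (hQ2 : ∀ a : A, a + a ∈ W)
    (hQq : ∀ (s t : F) (a : A), NN s (NN t a) ∈ W) :
    Good F A := by
  have H : ExtHyp F A W := ⟨h, hWinv, hW2, hWq, hQ2, hQq⟩
  have h2A := H.two_A (by omega)
  exact ⟨h2A, h, fun t a => H.quad_A h2A t a⟩

end Cfsg.Agent.Lib.Helper1.Hig
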