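import Mathlib
import Cfsg.Agent.Lib.Helper1.Hig.Ext
import Cfsg.Agent.Lib.Helper13.HigW

set_option autoImplicit false
set_option linter.unusedVariables false
set_option linter.unusedSimpArgs false
set_option linter.style.haveILetI false
set_option linter.unusedSectionVars false

namespace Cfsg.Agent.Lib.Helper1.Hig

open Matrix Cfsg.Agent.Lib.helper15.NatMod Cfsg.Agent.Lib.helper15.QS

universe u v

theorem module_main_aux {F : Type u} [Field F] [Fintype F] [CharP F 2] (hF : 4 ≤ Fintype.card F) :
    ∀ (n : ℕ) (A : Type v) [AddCommGroup A] [Finite A]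
      [DistribMulAction (SpecialLinearGroup (Fin 2) F) A],
      Nat.card A = n → (∀ a : A, ∃ k : ℕ, 2 ^ k • a = 0) → FPF F A → Good F A := by
  intro n
  induction n using Nat.strong_induction_on with
  | _ n ih =>
    intro A _ _ _ hn h2 h
    by_cases hsub : Subsingleton A
    · refine ⟨fun a => Subsingleton.elim _ _, h, fun t a s => Subsingleton.elim _ _⟩
    · have hnt : Nontrivial A := not_subsingleton_iff_nontrivial.mp hsub
      set W := Wsub F A with hW
      have hWinv : ∀ (g : SpecialLinearGroup (Fin 2) F) (a : A), a ∈ W → g • a ∈ W :=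
        fun g a ha => Cfsg.Agent.Lib.Helper13.Hig.Wsub_smul h g a ha
      have hWne : W ≠ ⊥ := Cfsg.Agent.Lib.Helper13.Hig.Wsub_ne_bot (F := F) h2
      letI := quotAct W hWinv
      have hlt : Nat.card (A ⧸ W) < n := by
        have h1 : Nat.card A = Nat.card (A ⧸ W) * Nat.card W := AddSubgroup.card_eq_card_quotient_mul_card_addSubgroup W
        have h2' : 1 < Nat.card W := by
          rw [Finite.one_lt_card_iff_nontrivial]
          exact (AddSubgroup.nontrivial_iff_ne_bot W).mpr hWne
        have h3 : 0 < Nat.card (A ⧸ W) := Nat.card_pos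
        rw [← hn, h1]
        nlinarith
      have h2Q : ∀ q : A ⧸ W, ∃ k : ℕ, 2 ^ k • q = 0 := by
        intro q
        induction q using QuotientAddGroup.induction_on with
        | _ a =>
          obtain ⟨k, hk⟩ := h2 a
          refine ⟨k, ?_⟩
          rw [← QuotientAddGroup.mk_nsmul, hk]
          rfl
      have hQ : Good F (A ⧸ W) := ih _ hlt (A ⧸ W) rfl h2Q (FPF.quot W hWinv h h2)
      apply ext_good hF h W hWinv
      · intro a ha; exact Cfsg.Agent.Lib.Helper13.Hig.Wsub_two ha
      · intro t a ha; exact Cfsg.Agent.Lib.Helper13.Hig.Wsub_quad h t a ha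
      · intro a
        have := hQ.two (a : A ⧸ W)
        rw [← QuotientAddGroup.mk_add] at this
        exact (QuotientAddGroup.eq_zero_iff _).mp this
      · intro s t a
        have := hQ.quad t (a : A ⧸ W)
        rw [quot_NN_mk W hWinv] at this
        exact (quot_mem_fixU_iff W hWinv _).mp this s

theorem module_main {F : Type u} [Field F] [Fintype F] [CharP F 2] (hF : 4 ≤ Fintype.card F)
    (A : Type v) [AddCommGroup A] [Finite A] [DistribMulAction (SpecialLinearGroup (Fin 2) F) A]
    (h2 : ∀ a : A, ∃ k : ℕ, 2 ^ k • a = 0) (h : FPF F A) : Good F A :=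
  module_main_aux hF _ A rfl h2 h

end Cfsg.Agent.Lib.Helper1.Hig
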